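import Cfsg.Agent.Lib.Spor.Fi22.Defs

set_option autoImplicit false
set_option maxRecDepth 100000
set_option Elab.async false
set_option exponentiation.threshold 100000

namespace Cfsg.Agent.Spor.Fi22
open Cfsg.Agent.PG

theorem cl8_0 : chk A 12 (cl8_l) = true := by decide +kernel

theorem ok8 : plainOK A 11 12 1 tr8 ce8 = true := by decide +kernel

theorem orb8 : orbCardB A 9 11 1 2 2 = true := by decide +kernel

theorem cl7_0 : chk A 12 (cl7_l) = true := by decide +kernel

theorem ok7 : plainOK A 10 11 30 tr7 ce7 = true := by decide +kernel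

theorem orb7 : orbCardB A 9 10 30 2 2 = true := by decide +kernel

theorem cl6_0 : chk A 12 (cl6_l) = true := by decide +kernel

theorem ok6 : plainOK A 7 10 10 tr6 ce6 = true := by decide +kernel

theorem orb6 : orbCardB A 9 7 10 2 8 = true := by decide +kernel

theorem cl5_0 : chk A 12 (cl5_l) = true := by decide +kernel

theorem ok5 : plainOK A 6 7 40 tr5 ce5 = true := by decide +kernel

theorem orb5 : orbCardB A 9 6 40 3 3 = true := by decide +kernel

theorem cl4_0 : chk A 12 ((cl4_l).take 162) = true := by decide +kernel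

theorem cl4_1 : chk A 12 ((cl4_l).drop 162) = true := by decide +kernel

theorem ok4 : plainOK A 4 6 81 tr4 ce4 = true := by decide +kernel

theorem orb4 : orbCardB A 9 4 81 4 32 = true := by decide +kernel

theorem cl3_0 : chk A 12 (cl3_l) = true := by decide +kernel

theorem ok3 : dcOK A 3 6 1470 81 4 cj3 reps3 = true := by decide +kernel

theorem orb3 : orbCardB A 9 3 1470 4 48 = true := by decide +kernel

theorem cl2_0 : chk A 12 (cl2_l) = true := by decide +kernel

theorem ok2 : dcOK A 2 4 637 1470 4 cj2 reps2 = true := by decide +kernel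

theorem orb2 : orbCardB A 9 2 637 4 180 = true := by decide +kernel

theorem cl1_0 : chk A 12 (cl1_l) = true := by decide +kernel

theorem ok1 : dcOK A 1 3 6 637 4 cj1 reps1 = true := by decide +kernel

theorem orb1 : orbCardB A 9 1 6 5 693 = true := by decide +kernel

theorem cl0_0 : chk A 12 (cl0_l) = true := by decide +kernel

theorem ok0 : dcOK A 0 2 0 6 5 cj0 reps0 = true := by decide +kernel

theorem orb0 : orbCardB A 9 0 0 6 3510 = true := by decide +kernel

theorem maxok0 : maxOK A 0 1 0 6 5 7 [0x100, 0x100020406040200] = true := by decide +kernel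

theorem ncloks0_8 : nclOK A 11 12 1 2 [[0x022c]] [(1, 0)] = true := by decide +kernel

theorem ncloks0_7 : nclOK A 10 11 30 2 [[0x0228]] [(1, 0), (1, 1)] = true := by decide +kernel

theorem ncloks0_6 : nclOK A 7 10 10 2 [[0x021c], [0x0220], [0x0224]] [(1, 0), (1, 1), (1, 2), (1, 3), (1, 4)] = true := by decide +kernel

theorem ncloks0_5 : nclOK A 6 7 40 3 [[0x0218]] [(1, 0), (1, 1), (1, 2), (1, 3), (1, 4), (1, 5)] = true := by decide +kernel

theorem ncloks0_4 : nclOK A 4 6 81 4 [[0x0210]] [(1, 0), (1, 1), (1, 2), (1, 3), (1, 4), (1, 5), (1, 6), (0x10a, 0)] = true := by decide +kernel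

theorem ncloks0_3 : nclOK A 3 4 1470 5 [] [(1, 0), (1, 1), (1, 2), (1, 3), (1, 4), (1, 5), (1, 6), (1, 7), (0x10609, 0)] = true := by decide +kernel

theorem ncloks0_2 : nclOK A 2 3 637 4 [] [(1, 0), (1, 1), (1, 2), (1, 3), (1, 4), (1, 5), (1, 6), (1, 7), (1, 8), (0x1040704, 0)] = true := by decide +kernel

theorem ncloks0_1 : nclOK A 1 2 6 5 [] [(1, 0), (1, 1), (1, 2), (1, 3), (1, 4), (1, 5), (1, 6), (1, 7), (1, 8), (1, 9), (0x1020509, 0)] = true := by decide +kernel

theorem ncloks0_0 : nclOK A 0 1 0 5 [] [(1, 0), (1, 1), (1, 2), (1, 3), (1, 4), (1, 5), (1, 6), (1, 7), (1, 8), (1, 9), (1, 10), (0x100020400, 3)] = true := by decide +kernel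

theorem zcls0_0 : chk A 12 (zcls0_l) = true := by decide +kernel

theorem yp0_0 : chk A 12 (yp0_l) = true := by decide +kernel

theorem tcomm_0 : chk A 12 (tcomm_l) = true := by decide +kernel

theorem ttr_0 : chk A 12 (ttr_l) = true := by decide +kernel

theorem tsq_0 : chk A 12 (tsq_l) = true := by decide +kernel

theorem tne : pp A td ≠ 1 := ne_one_of_not_mapsB hA (a := 1) (by decide +kernel)

theorem tns_0 : chk A 12 (tns_l) = true := by decide +kernel

theorem maxok1 : maxOK A 1 2 6 5 5 5 [0x102, 0x10204060402] = true := by decide +kernel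

theorem self1 : selfB A 1 (kgens A 2) 6 5 [10, 40] B1 = true := by decide +kernel

theorem cov1 : coverB A (kgens A 1) 5 [6] B1 = true := by decide +kernel

theorem inv1 : invB A (kgens A 1) B1 = true := by decide +kernel


end Cfsg.Agent.Spor.Fi22
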