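import Cfsg.Agent.Lib.Spor.Fi22.C0
import Cfsg.Agent.Lib.Spor.Fi22.Defs

set_option autoImplicit false
set_option maxRecDepth 100000
set_option Elab.async false
set_option exponentiation.threshold 100000

namespace Cfsg.Agent.Spor.Fi22
open Cfsg.Agent.PG

theorem card9 : Nat.card (K A 12) = 1 := card_K_last A (le_of_eq hlen)

theorem cl8 : ∀ c ∈ cl8_l, Holds A c :=
  (chk_spec hA cl8_0)

theorem stab8 : StabIs A 11 1 12 := stabIs_plain hA ok8 cl8

theorem card8 : Nat.card (K A 11) = 2 := card_K_step hA stab8 orb8 card9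

theorem cl7 : ∀ c ∈ cl7_l, Holds A c :=
  (chk_spec hA cl7_0)

theorem stab7 : StabIs A 10 30 11 := stabIs_plain hA ok7 cl7

theorem card7 : Nat.card (K A 10) = 4 := card_K_step hA stab7 orb7 card8

theorem cl6 : ∀ c ∈ cl6_l, Holds A c :=
  (chk_spec hA cl6_0)

theorem stab6 : StabIs A 7 10 10 := stabIs_plain hA ok6 cl6

theorem card6 : Nat.card (K A 7) = 32 := card_K_step hA stab6 orb6 card7

theorem cl5 : ∀ c ∈ cl5_l, Holds A c :=
  (chk_spec hA cl5_0)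

theorem stab5 : StabIs A 6 40 7 := stabIs_plain hA ok5 cl5

theorem card5 : Nat.card (K A 6) = 96 := card_K_step hA stab5 orb5 card6

theorem cl4 : ∀ c ∈ cl4_l, Holds A c :=
  (forall_take_drop 162 (chk_spec hA cl4_0)
  (chk_spec hA cl4_1))

theorem stab4 : StabIs A 4 81 6 := stabIs_plain hA ok4 cl4

theorem card4 : Nat.card (K A 4) = 3072 := card_K_step hA stab4 orb4 card5

theorem cl3 : ∀ c ∈ cl3_l, Holds A c :=
  (chk_spec hA cl3_0)

theorem stab3 : StabIs A 3 1470 4 := stabIs_dc hA stab4 ok3 cl3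

theorem card3 : Nat.card (K A 3) = 147456 := card_K_step hA stab3 orb3 card4

theorem cl2 : ∀ c ∈ cl2_l, Holds A c :=
  (chk_spec hA cl2_0)

theorem stab2 : StabIs A 2 637 3 := stabIs_dc hA stab3 ok2 cl2

theorem card2 : Nat.card (K A 2) = 26542080 := card_K_step hA stab2 orb2 card3

theorem cl1 : ∀ c ∈ cl1_l, Holds A c :=
  (chk_spec hA cl1_0)

theorem stab1 : StabIs A 1 6 2 := stabIs_dc hA stab2 ok1 cl1

theorem card1 : Nat.card (K A 1) = 18393661440 := card_K_step hA stab1 orb1 card2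

theorem cl0 : ∀ c ∈ cl0_l, Holds A c :=
  (chk_spec hA cl0_0)

theorem stab0 : StabIs A 0 0 1 := stabIs_dc hA stab1 ok0 cl0

theorem card0 : Nat.card (K A 0) = 64561751654400 := card_K_step hA stab0 orb0 card1

theorem fixTriv0 {B : Set ℕ} (h0 : 0 ∈ B) (h1 : 6 ∈ B) (h2 : 637 ∈ B) (h3 : 1470 ∈ B) (h4 : 81 ∈ B) (h5 : 40 ∈ B) (h6 : 10 ∈ B) (h7 : 30 ∈ B) (h8 : 1 ∈ B) : FixTriv (K A 0) B :=
  fixTriv_step stab0 h0 <| fixTriv_step stab1 h1 <| fixTriv_step stab2 h2 <| fixTriv_step stab3 h3 <| fixTriv_step stab4 h4 <| fixTriv_step stab5 h5 <| fixTriv_step stab6 h6 <| fixTriv_step stab7 h7 <| fixTriv_step stab8 h8 <| fixTriv_last A (le_of_eq hlen) B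

theorem fixTriv1 {B : Set ℕ} (h1 : 6 ∈ B) (h2 : 637 ∈ B) (h3 : 1470 ∈ B) (h4 : 81 ∈ B) (h5 : 40 ∈ B) (h6 : 10 ∈ B) (h7 : 30 ∈ B) (h8 : 1 ∈ B) : FixTriv (K A 1) B :=
  fixTriv_step stab1 h1 <| fixTriv_step stab2 h2 <| fixTriv_step stab3 h3 <| fixTriv_step stab4 h4 <| fixTriv_step stab5 h5 <| fixTriv_step stab6 h6 <| fixTriv_step stab7 h7 <| fixTriv_step stab8 h8 <| fixTriv_last A (le_of_eq hlen) B

theorem fixTriv2 {B : Set ℕ} (h2 : 637 ∈ B) (h3 : 1470 ∈ B) (h4 : 81 ∈ B) (h5 : 40 ∈ B) (h6 : 10 ∈ B) (h7 : 30 ∈ B) (h8 : 1 ∈ B) : FixTriv (K A 2) B :=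
  fixTriv_step stab2 h2 <| fixTriv_step stab3 h3 <| fixTriv_step stab4 h4 <| fixTriv_step stab5 h5 <| fixTriv_step stab6 h6 <| fixTriv_step stab7 h7 <| fixTriv_step stab8 h8 <| fixTriv_last A (le_of_eq hlen) B

theorem fixTriv3 {B : Set ℕ} (h3 : 1470 ∈ B) (h4 : 81 ∈ B) (h5 : 40 ∈ B) (h6 : 10 ∈ B) (h7 : 30 ∈ B) (h8 : 1 ∈ B) : FixTriv (K A 3) B :=
  fixTriv_step stab3 h3 <| fixTriv_step stab4 h4 <| fixTriv_step stab5 h5 <| fixTriv_step stab6 h6 <| fixTriv_step stab7 h7 <| fixTriv_step stab8 h8 <| fixTriv_last A (le_of_eq hlen) B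

theorem fixTriv4 {B : Set ℕ} (h4 : 81 ∈ B) (h5 : 40 ∈ B) (h6 : 10 ∈ B) (h7 : 30 ∈ B) (h8 : 1 ∈ B) : FixTriv (K A 4) B :=
  fixTriv_step stab4 h4 <| fixTriv_step stab5 h5 <| fixTriv_step stab6 h6 <| fixTriv_step stab7 h7 <| fixTriv_step stab8 h8 <| fixTriv_last A (le_of_eq hlen) B

theorem fixTriv5 {B : Set ℕ} (h5 : 40 ∈ B) (h6 : 10 ∈ B) (h7 : 30 ∈ B) (h8 : 1 ∈ B) : FixTriv (K A 6) B :=
  fixTriv_step stab5 h5 <| fixTriv_step stab6 h6 <| fixTriv_step stab7 h7 <| fixTriv_step stab8 h8 <| fixTriv_last A (le_of_eq hlen) B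

theorem fixTriv6 {B : Set ℕ} (h6 : 10 ∈ B) (h7 : 30 ∈ B) (h8 : 1 ∈ B) : FixTriv (K A 7) B :=
  fixTriv_step stab6 h6 <| fixTriv_step stab7 h7 <| fixTriv_step stab8 h8 <| fixTriv_last A (le_of_eq hlen) B

theorem fixTriv7 {B : Set ℕ} (h7 : 30 ∈ B) (h8 : 1 ∈ B) : FixTriv (K A 10) B :=
  fixTriv_step stab7 h7 <| fixTriv_step stab8 h8 <| fixTriv_last A (le_of_eq hlen) B

theorem fixTriv8 {B : Set ℕ} (h8 : 1 ∈ B) : FixTriv (K A 11) B :=
  fixTriv_step stab8 h8 <| fixTriv_last A (le_of_eq hlen) B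

theorem max0 (L : Subgroup (Equiv.Perm ℕ)) (h1 : K A 1 ≤ L) (h2 : L ≤ K A 0) : L = K A 1 ∨ L = K A 0 :=
  max_spec hA stab0 maxok0 h1 h2

theorem zcls0 : ∀ c ∈ zcls0_l, Holds A c :=
  (chk_spec hA zcls0_0)

theorem ncls0 (M : Subgroup (Equiv.Perm ℕ)) (hM : ∀ σ ∈ K A 0, ∀ n ∈ M, σ * n * σ⁻¹ ∈ M) (hy : pp A [0x02260a0216240e041a] ∈ M) : K A 0 ≤ M :=
  have hz := z_mem hM hy (zc := zcs0) (by decide +kernel) zcls0
  ncl_step hA stab0 ncloks0_0 (by decide) hM (sub_z hz (by decide +kernel)) <|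
  ncl_step hA stab1 ncloks0_1 (by decide) hM (sub_z hz (by decide +kernel)) <|
  ncl_step hA stab2 ncloks0_2 (by decide) hM (sub_z hz (by decide +kernel)) <|
  ncl_step hA stab3 ncloks0_3 (by decide) hM (sub_z hz (by decide +kernel)) <|
  ncl_step hA stab4 ncloks0_4 (by decide) hM (sub_z hz (by decide +kernel)) <|
  ncl_step hA stab5 ncloks0_5 (by decide) hM (sub_z hz (by decide +kernel)) <|
  ncl_step hA stab6 ncloks0_6 (by decide) hM (sub_z hz (by decide +kernel)) <|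
  ncl_step hA stab7 ncloks0_7 (by decide) hM (sub_z hz (by decide +kernel)) <|
  ncl_step hA stab8 ncloks0_8 (by decide) hM (sub_z hz (by decide +kernel)) <|
  K_last_le A (le_of_eq hlen) M

theorem yp0 : ∀ c ∈ yp0_l, Holds A c :=
  (chk_spec hA yp0_0)

theorem simple0 : IsSimpleGroup (K A 0) :=
  isSimpleGroup_K hA stab0 (exists_moved hA (j := 0) (by decide +kernel)) max0 (fixTriv0
    (mem_orbit_of_word hA (w := 1) (by decide +kernel))
    (mem_orbit_of_word hA (w := 0x100) (by decide +kernel))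
    (mem_orbit_of_word hA (w := 0x10003) (by decide +kernel))
    (mem_orbit_of_word hA (w := 0x1000305) (by decide +kernel))
    (mem_orbit_of_word hA (w := 0x100030507) (by decide +kernel))
    (mem_orbit_of_word hA (w := 0x100020506) (by decide +kernel))
    (mem_orbit_of_word hA (w := 0x100020407040308) (by decide +kernel))
    (mem_orbit_of_word hA (w := 0x100030406050209) (by decide +kernel))
    (mem_orbit_of_word hA (w := 0x1000204070402000b02) (by decide +kernel)))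
    (p := 13) (e := 1) (by norm_num) (by rw [card1]; norm_num) (pp_mem (l := [0x02260a0216240e041a]) (by decide +kernel))
    (pow_of_claim yp0) ncls0

theorem tcomm : ∀ c ∈ tcomm_l, Holds A c :=
  (chk_spec hA tcomm_0)

theorem ttr : ∀ c ∈ ttr_l, Holds A c :=
  (chk_spec hA ttr_0)

theorem tsq : ∀ c ∈ tsq_l, Holds A c :=
  (chk_spec hA tsq_0)

theorem tns : ∀ c ∈ tns_l, Holds A c :=
  (chk_spec hA tns_0)

theorem max1 (L : Subgroup (Equiv.Perm ℕ)) (h1 : K A 2 ≤ L) (h2 : L ≤ K A 1) : L = K A 2 ∨ L = K A 1 :=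
  max_spec hA stab1 maxok1 h1 h2


end Cfsg.Agent.Spor.Fi22
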